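import Groth.Agent.Etbc.H223.SepFin
import Groth.Agent.Etrest.ConstBasic
import Groth.Agent.Etcore.EtInst

/-!
# Finiteness of `H^q(Y, M)` for `Y` of finite type over a separably closed field, `M` finite
-/

set_option autoImplicit false
universe u
open CategoryTheory CategoryTheory.Limits AlgebraicGeometry

namespace Groth.Agent.Sga7.H173.FinSep

/-- `H^q(Y, M)` is finite for a scheme `Y` of finite type over a separably closed field `Ω` and a finite
abelian group `M` killed by an integer `n` which is nonzero in `Ω`. -/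
theorem finite_of_killed (Ω : Type u) [Field Ω] [IsSepClosed Ω] {Y : Scheme.{u}}
    (b : Y ⟶ Spec (CommRingCat.of Ω)) [LocallyOfFiniteType b] [QuasiCompact b]
    (M : Type) [AddCommGroup M] [Finite M] (n : ℕ) (hn : (n : Ω) ≠ 0) (hM : ∀ m : M, n • m = 0)
    (q : ℕ) : Finite (Groth.Agent.Etcore.EtInst.HH Y (EtCoh.const Y M) q) := by
  have hu : IsUnit (n : Γ(Spec (CommRingCat.of Ω), ⊤)) := by
    have h := (Ne.isUnit hn).map (Scheme.ΓSpecIso (CommRingCat.of Ω)).inv.hom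
    rwa [map_natCast] at h
  have ht : EtPBC.IsTorsionInvertibleOn (Spec (CommRingCat.of Ω)) (EtCoh.const Y M) := by
    intro U s x
    exact ⟨U, 𝟙 U, n, ⟨x, rfl⟩, hu, Groth.Agent.Etrest.ConstBasic.killedBy_const Y M n hM U _⟩
  exact (Groth.Agent.Etcore.EtInst.finite_H_iff _ _).1
    (Groth.Agent.Etbc.H223.SepFin.finite_H Ω Y b (EtCoh.const Y M)
      (Groth.Agent.Etrest.ConstBasic.isConstructible_const Y M) ht q)

/-- `H^q(Y, ℤ/ℓ^ν)` is finite for a scheme `Y` of finite type over a separably closed field in which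
`ℓ` is invertible. -/
theorem finite_HH (Ω : Type u) [Field Ω] [IsSepClosed Ω] (ℓ : ℕ) (hl : ℓ.Prime)
    (hΩ : (ℓ : Ω) ≠ 0) {Y : Scheme.{u}} (b : Y ⟶ Spec (CommRingCat.of Ω)) [LocallyOfFiniteType b]
    [QuasiCompact b] (q ν : ℕ) :
    Finite (Groth.Agent.Etcore.EtInst.HH Y (EtCoh.const Y (ZMod (ℓ ^ ν))) q) := by
  have : NeZero (ℓ ^ ν) := ⟨pow_ne_zero _ hl.ne_zero⟩
  refine finite_of_killed Ω b (ZMod (ℓ ^ ν)) (ℓ ^ ν) ?_ (fun m => ?_) q
  · rw [Nat.cast_pow]
    exact pow_ne_zero _ hΩ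
  · rw [nsmul_eq_mul, ZMod.natCast_self, zero_mul]

end Groth.Agent.Sga7.H173.FinSep
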